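import Cfsg.Agent.CTwoTab.Restr
import Cfsg.Agent.OddHalf.D4.Spor.FiTF_m3
import Cfsg.Agent.KFacts.FiTF.FrameF
import Cfsg.Agent.Omega.Quasithin.Row.EvenOf
import Cfsg.Agent.S1698
import Cfsg.Agent.FastGrp
import Cfsg.Agent.Prune
set_option linter.all false

section
prune_inst 0x7f00000000000000000000000000000000000000000000000000000000000000000000000000000000000000000000000000000000000000000000000000000000000000000000000000000000000000003fffffffffffffffffffffffffffbeffbdffffffff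

-- part: CTwoTab/FiTF
section
set_option linter.all false
open scoped Cfsg.Agent.FastGrp

/-!
# The table "components of involution centralizers are `C₂`-groups": the row `Fi24'` (helper49)

An involution of `Fi24'` is a product of two commuting transpositions (the only component of its centralizer is a
double cover of `Fi22`) or of four (its centralizer has no component, `F* = 2^{1+12}`).

* `classes` : the two kinds of involutions, up to conjugacy;
* `at_pair`, `at_tet`; `compC2 : CompC2 Spor.Fi24'`;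
* `comp_iso` : every component `K` of the centralizer of an involution of `Fi24'` satisfies `K / Z(K) ≅ Fi22` and has
  order `2 |Fi22|`.
-/

set_option autoImplicit false

namespace Cfsg.Agent.CTwoTab.FiTF

open Cfsg Cfsg.Spor Cfsg.Agent.R01 Cfsg.Agent.R08 Cfsg.Agent.R08.FiTwentyFour
open Cfsg.Agent.R08.TetTwo Cfsg.Agent.R08.TetThree Cfsg.Agent.R08.TetBasic
open Subgroup
open scoped commutatorElement

local notation "Pr" => Cfsg.Agent.R08.TetFi24A.At

/-! ### Generalities -/

/-- `O(C(t)) = 1` in elementary form -/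
theorem core_of_bal {X : Type*} [Group X] [Finite X] {t : X}
    (h : ∀ I : Subgroup X, (∀ i ∈ I, i * t = t * i) → (∀ c : X, c * t = t * c → ∀ i ∈ I, c * i * c⁻¹ ∈ I) →
      Odd (Nat.card ↥I) → I = ⊥) : centralizerPPrimeCore 2 t = ⊥ := by
  have hN : (pPrimeCore 2 ↥(centralizer ({t} : Set X))).Normal := Lib.Cores.pPrimeCore_normal 2
  apply h
  · rintro _ ⟨y, -, rfl⟩
    exact mem_centralizer_singleton_iff.1 y.2
  · rintro c hc _ ⟨y, hy, rfl⟩
    exact ⟨_, hN.conj_mem y hy ⟨c, mem_centralizer_singleton_iff.2 hc⟩, rfl⟩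
  · have h1 : Nat.card ↥(centralizerPPrimeCore 2 t) = Nat.card ↥(pPrimeCore 2 ↥(centralizer ({t} : Set X))) :=
      Nat.card_congr ((pPrimeCore 2 ↥(centralizer ({t} : Set X))).equivMapOfInjective _
        (Subgroup.subtype_injective _)).symm.toEquiv
    rw [h1]
    have h2 := Lib.Cores.pPrimeCore_coprime (G := ↥(centralizer ({t} : Set X))) 2
    exact Nat.coprime_two_right.1 h2

/-- the commutator of two elements normalising `{a, b}` fixes `a` -/
theorem comm_fix {X : Type*} [Group X] {a b x y : X}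
    (hx : (x * a * x⁻¹ = a ∧ x * b * x⁻¹ = b) ∨ (x * a * x⁻¹ = b ∧ x * b * x⁻¹ = a))
    (hy : (y * a * y⁻¹ = a ∧ y * b * y⁻¹ = b) ∨ (y * a * y⁻¹ = b ∧ y * b * y⁻¹ = a)) :
    ⁅x, y⁆ * a = a * ⁅x, y⁆ ∧ ⁅x, y⁆ * b = b * ⁅x, y⁆ := by
  let f : X →* MulAut X := MulAut.conj
  have hf : ∀ g v, f g v = g * v * g⁻¹ := fun _ _ => rfl
  have hfi : ∀ g u v, f g u = v → (f g)⁻¹ v = u := by
    intro g u v h
    rw [← h, MulAut.inv_apply_self]
  have key : f ⁅x, y⁆ a = a ∧ f ⁅x, y⁆ b = b := by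
    have e : f ⁅x, y⁆ = f x * f y * (f x)⁻¹ * (f y)⁻¹ := by
      rw [commutatorElement_def, map_mul, map_mul, map_mul, map_inv, map_inv]
    rw [e]
    simp only [MulAut.mul_apply]
    rcases hx with ⟨h1, h2⟩ | ⟨h1, h2⟩ <;> rcases hy with ⟨h3, h4⟩ | ⟨h3, h4⟩ <;>
      rw [← hf] at h1 h2 h3 h4 <;>
      simp only [hfi _ _ _ h1, hfi _ _ _ h2, hfi _ _ _ h3, hfi _ _ _ h4, h1, h2, h3, h4, and_self]
  rw [hf, hf] at key
  exact ⟨mul_inv_eq_iff_eq_mul.1 key.1, mul_inv_eq_iff_eq_mul.1 key.2⟩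

/-! ### The double cover of `Fi22` -/

/-- the double cover of `Fi22` in `C(ab)` -/
def N (a b : Fi24) : Subgroup Spor.Fi24' := (Cab a b).subgroupOf (commutator Fi24)

theorem mem_N {a b : Fi24} {x : Spor.Fi24'} : x ∈ N a b ↔ (x : Fi24) ∈ Cab a b := mem_subgroupOf

theorem Cab_le {a b : Fi24} : Cab a b ≤ commutator Fi24 :=
  fun _ hx => mem_commutator_iff.2 (mem_Cab.1 hx).1

/-- the subgroup as a subgroup of `Fi24` -/
noncomputable def eN (a b : Fi24) : ↥(N a b) ≃* ↥(Cab a b) := subgroupOfEquivOfLe Cab_le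

theorem center_Fi22 : center Fi22 = ⊥ := by
  rw [eq_bot_iff]
  intro p hp
  exact OddHalf.D4.Spor.FiTF.fi22_center fun q => (mem_center_iff.1 hp q).symm

theorem ker_le {a b : Fi24} (P : Pr a b) : P.π.ker ≤ center (Cab a b) := by
  intro x hx
  rw [MonoidHom.mem_ker, P.lift.ext.ker] at hx
  rw [mem_center_iff]
  intro g
  rcases hx with rfl | rfl
  · rw [mul_one, one_mul]
  · apply Subtype.ext
    obtain ⟨-, h1, h2⟩ := mem_Cab.1 g.2
    show (g : Fi24) * (P.z : Fi24) = (P.z : Fi24) * g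
    rw [P.hz, ← mul_assoc, h1, mul_assoc, h2, ← mul_assoc]

theorem qs_Cab {a b : Fi24} (P : Pr a b) : IsQuasisimple ↥(Cab a b) := by
  have : IsSimpleGroup Fi22 := Cfsg.Agent.S1696.result.1
  exact quo_quasisimple P.lift.ext.surj center_Fi22 (ker_le P) (FiTwentyFour.perfect P.ha P.hb P.ne P.ab)

/-- `Cab / Z(Cab) ≅ Fi22` -/
noncomputable def quoEquivFi {a b : Fi24} (P : Pr a b) : (↥(Cab a b) ⧸ center ↥(Cab a b)) ≃* Fi22 :=
  quoCenterEquiv P.lift.ext.surj center_Fi22 (ker_le P)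

theorem isCTwoListed_of_Fi22 {K : Type*} [Group K] (h : Spor.IsoFi22 K) : IsCTwoListed K := by
  unfold IsCTwoListed
  tauto

theorem good_Cab {a b : Fi24} (P : Pr a b) : Good ↥(Cab a b) := by
  refine ⟨Or.inr (Or.inr (Or.inl ⟨rfl, isCTwoListed_of_Fi22 ⟨quoEquivFi P⟩⟩)), ?_⟩
  have hq : Nat.card (↥(Cab a b) ⧸ center ↥(Cab a b)) = 64561751654400 :=
    (Nat.card_congr (quoEquivFi P).toEquiv).trans Cfsg.Agent.S1696.result.2
  exact not_exc_of_card (OddHalf.D4.Spor.FiTF.card_Cab P) 50543 (by norm_num) (by norm_num) (by norm_num)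
    (by rw [hq]; norm_num) (by norm_num) (by norm_num) (by norm_num)

theorem qs_N {a b : Fi24} (P : Pr a b) : IsQuasisimple ↥(N a b) :=
  SignalizersComponents.Components.isQuasisimple_of_mulEquiv (eN a b).symm (qs_Cab P)

theorem good_N {a b : Fi24} (P : Pr a b) : Good ↥(N a b) := (good_Cab P).congr (eN a b).symm

theorem N_le {a b : Fi24} {t : Spor.Fi24'} (ht : (t : Fi24) = a * b) :
    N a b ≤ centralizer ({t} : Set Spor.Fi24') := by
  intro x hx
  obtain ⟨-, h1, h2⟩ := mem_Cab.1 (mem_N.1 hx)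
  rw [mem_centralizer_singleton_iff]
  apply Subtype.ext
  show (x : Fi24) * (t : Fi24) = (t : Fi24) * x
  rw [ht, ← mul_assoc, h1, mul_assoc, h2, ← mul_assoc]

theorem fix_or_swap {a b : Fi24} (P : Pr a b) {t x : Spor.Fi24'} (ht : (t : Fi24) = a * b)
    (hx : x ∈ centralizer ({t} : Set Spor.Fi24')) :
    ((x : Fi24) * a * (x : Fi24)⁻¹ = a ∧ (x : Fi24) * b * (x : Fi24)⁻¹ = b) ∨
      ((x : Fi24) * a * (x : Fi24)⁻¹ = b ∧ (x : Fi24) * b * (x : Fi24)⁻¹ = a) := by
  apply OddHalf.D4.Spor.FiTF.pair_fix P.ha P.hb P.ab P.ne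
  rw [mul_inv_eq_iff_eq_mul, ← ht]
  exact congrArg Subtype.val (mem_centralizer_singleton_iff.1 hx)

theorem perf_le {a b : Fi24} (P : Pr a b) {t : Spor.Fi24'} (ht : (t : Fi24) = a * b) (Q : Subgroup Spor.Fi24')
    (hQ : Q ≤ centralizer ({t} : Set Spor.Fi24')) (hp : ⁅Q, Q⁆ = Q) : Q ≤ N a b := by
  rw [← hp, commutator_le]
  intro x hx y hy
  rw [mem_N]
  have h := comm_fix (fix_or_swap P ht (hQ hx)) (fix_or_swap P ht (hQ hy))
  have e : ((⁅x, y⁆ : Spor.Fi24') : Fi24) = ⁅(x : Fi24), (y : Fi24)⁆ := by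
    rw [commutatorElement_def, commutatorElement_def]
    push_cast
    rfl
  rw [mem_Cab, e]
  refine ⟨?_, h.1, h.2⟩
  rw [← e]
  exact mem_commutator_iff.1 (⁅x, y⁆ : Spor.Fi24').2

/-- **the involutions which are products of two transpositions** -/
theorem at_pair {a b : Fi24} (P : Pr a b) {t : Spor.Fi24'} (ht : (t : Fi24) = a * b) : CTwoTab.At Spor.Fi24' t := by
  have := finite_Fi24
  have : Finite Spor.Fi24' := inferInstance
  exact CTwoTab.At.of_comp (core_of_bal (OddHalf.D4.Spor.FiTF.bal_pair P ht)) (qs_N P) (N_le ht) (perf_le P ht)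
    (good_N P)

/-! ### The 2-central involutions -/

/-- the involution `z` as an element of `Fi24'` -/
def z0 : Spor.Fi24' := KFacts.FiTF.Abs.zK KFacts.FiTF.frame

theorem coe_z0 : ((z0 : Spor.Fi24') : Fi24) = KFacts.FiTF.Defs.z := rfl

/-- `O₂(C(z))` -/
def R0 : Subgroup Spor.Fi24' := KFacts.FiTF.Defs.R.subgroupOf (commutator Fi24)

theorem R0_le : R0 ≤ centralizer ({z0} : Set Spor.Fi24') := by
  intro x hx
  rw [mem_centralizer_singleton_iff]
  apply Subtype.ext
  exact KFacts.FiTF.frame.Ez _ (KFacts.FiTF.frame.RE (mem_subgroupOf.1 hx))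

theorem R0_norm (c : Spor.Fi24') (hc : c ∈ centralizer ({z0} : Set Spor.Fi24')) (r : Spor.Fi24') (hr : r ∈ R0) :
    c * r * c⁻¹ ∈ R0 :=
  mem_subgroupOf.2 (KFacts.FiTF.frame.norm _ (congrArg Subtype.val (mem_centralizer_singleton_iff.1 hc)) _
    (mem_subgroupOf.1 hr))

theorem R_le : KFacts.FiTF.Defs.R ≤ commutator Fi24 := KFacts.FiTF.frame.RE.trans KFacts.FiTF.frame.EK

theorem R0_card : Nat.card ↥R0 = 2 ^ 13 := by
  have h1 : Nat.card ↥R0 = Nat.card ↥KFacts.FiTF.Defs.R := Nat.card_congr (subgroupOfEquivOfLe R_le).toEquiv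
  rw [h1, KFacts.FiTF.frame.cardR]
  norm_num

theorem R0_p : IsPGroup 2 ↥R0 := IsPGroup.of_card R0_card

theorem R0_cent (c : Spor.Fi24') (h : ∀ r ∈ R0, c * r = r * c) : c = 1 ∨ c = z0 := by
  rcases KFacts.FiTF.frame.cent c (fun r hr => by
    have := h ⟨r, R_le hr⟩ (mem_subgroupOf.2 hr)
    exact congrArg Subtype.val this) with h1 | h1
  · exact Or.inl (Subtype.ext h1)
  · exact Or.inr (Subtype.ext h1)

theorem z0_mem : z0 ∈ R0 := mem_subgroupOf.2 KFacts.FiTF.frame.zR

theorem at_z0 : CTwoTab.At Spor.Fi24' z0 := by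
  have := finite_Fi24
  have : Finite Spor.Fi24' := inferInstance
  refine CTwoTab.At.of_pGroup R0_le R0_norm R0_p fun c _ h => ?_
  rcases R0_cent c h with rfl | rfl
  · exact R0.one_mem
  · exact z0_mem

/-- the tetrad involutions are conjugate to `z` -/
theorem conj_tet {t : Spor.Fi24'} {a b c d : Fi24} (h : IsTet L (t : Fi24) a b c d) :
    ∃ g : Spor.Fi24', t = g * z0 * g⁻¹ := by
  have h3 := KFacts.FiTF.Tet.isTet (t := 0) (by norm_num)
  obtain ⟨g, hg, e1, e2, e3, e4⟩ := TetBig.quad TetBigInst.hyp h3 h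
  refine ⟨⟨g, hg⟩, ?_⟩
  apply Subtype.ext
  show (t : Fi24) = g * KFacts.FiTF.Defs.z * g⁻¹
  rw [← h3.prod, ← h.prod, TetBig.conj_mul, TetBig.conj_mul, TetBig.conj_mul, e1, e2, e3, e4]

/-- **the two kinds of involutions** -/
theorem classes (t : Spor.Fi24') (ht : orderOf t = 2) :
    (∃ a b : Fi24, ∃ _ : Pr a b, (t : Fi24) = a * b) ∨ ∃ g : Spor.Fi24', t = g * z0 * g⁻¹ := by
  have h1 : t * t = 1 := by rw [← pow_two, ← ht, pow_orderOf_eq_one]
  have h2 : t ≠ 1 := by
    rintro rfl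
    rw [orderOf_one] at ht
    omega
  rcases OddHalf.D4.Spor.FiTF.facts.invol t t.2 (congrArg Subtype.val h1) (fun h => h2 (Subtype.ext h)) with
    ⟨a, ha, b, hb, nab, cab, h3⟩ | ⟨a, b, c, d, h3⟩
  · obtain ⟨Q⟩ := TetFi24A.exists_at ha hb nab cab
    exact Or.inl ⟨a, b, Q, h3⟩
  · exact Or.inr (conj_tet h3)

/-- **The row `Fi24'`.** -/
theorem compC2 : CompC2 Spor.Fi24' := by
  have key : ∀ t : Spor.Fi24', orderOf t = 2 → CTwoTab.At Spor.Fi24' t := by
    intro t ht
    rcases classes t ht with ⟨a, b, P, h⟩ | ⟨g, rfl⟩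
    · exact at_pair P h
    · exact at_z0.conj g
  exact ⟨fun t ht => (key t ht).bal, fun t ht => (key t ht).comp⟩

/-- The components: `K / Z(K) ≅ Fi22`, `|K| = 2 |Fi22|`. -/
theorem comp_iso {t : Spor.Fi24'} (ht : orderOf t = 2) {K : Subgroup Spor.Fi24'}
    (hK : IsComponentOf K (centralizer ({t} : Set Spor.Fi24'))) :
    Nonempty (↥K ⧸ center ↥K ≃* Fi22) ∧ Nat.card ↥K = 2 * 64561751654400 := by
  have := finite_Fi24
  have : Finite Spor.Fi24' := inferInstance
  rcases classes t ht with ⟨a, b, P, h⟩ | ⟨g, rfl⟩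
  · have e := comp_eq (qs_N P) (N_le h) (perf_le P h) hK
    subst e
    exact ⟨⟨(quoEquiv (eN a b)).trans (quoEquivFi P)⟩,
      (Nat.card_congr (eN a b).toEquiv).trans (OddHalf.D4.Spor.FiTF.card_Cab P)⟩
  · exfalso
    have h1 := isComponentOf_map (MulAut.conj g⁻¹) hK
    rw [map_centralizer_singleton] at h1
    have h2 : MulAut.conj g⁻¹ (g * z0 * g⁻¹) = z0 := by
      rw [MulAut.conj_apply]; group
    rw [h2] at h1
    have : Fact (Nat.Prime 2) := ⟨Nat.prime_two⟩
    refine no_comp_of_pGroup R0_le R0_norm R0_p (fun c _ h => ?_) _ h1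
    rcases R0_cent c h with rfl | rfl
    · exact R0.one_mem
    · exact z0_mem

theorem compCard : CompCard (fun n m => n = 2 * 64561751654400 ∧ m = 64561751654400) Spor.Fi24' := by
  intro t ht K hK
  obtain ⟨⟨e⟩, h⟩ := comp_iso ht hK
  exact ⟨h, (Nat.card_congr e.toEquiv).trans Cfsg.Agent.S1696.result.2⟩

/-- the 2-rank is at least 3 -/
theorem rank : PRankAtLeast 2 3 Spor.Fi24' := by
  have h := KFacts.FiTF.Tet.isTet (t := 0) (by norm_num)
  have hz : KFacts.FiTF.Defs.z ≠ 1 := KFacts.FiTF.frame.z1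
  generalize KFacts.FiTF.Defs.D 0 0 = a at h
  generalize KFacts.FiTF.Defs.D 0 1 = b at h
  generalize KFacts.FiTF.Defs.D 0 2 = c at h
  generalize KFacts.FiTF.Defs.D 0 3 = d at h
  have aa : a * a = 1 := FiTwentyFour.sq h.ha
  have ba : b * a = a * b := h.ab.eq.symm
  have ca : c * a = a * c := h.ac.eq.symm
  have da : d * a = a * d := h.ad.eq.symm
  have m2 : ∀ u v : Fi24, u * a = a * u → a * u * (a * v) = u * v := by
    intro u v hu
    calc a * u * (a * v) = a * (u * a) * v := by group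
      _ = (a * a) * (u * v) := by rw [hu]; group
      _ = u * v := by rw [aa, one_mul]
  have sq2 : ∀ u : Fi24, u ∈ L → u * a = a * u → a * u * (a * u) = 1 := by
    intro u hu h1
    rw [m2 u u h1, FiTwentyFour.sq hu]
  have ev : ∀ u : Fi24, u ∈ L → a * u ∈ commutator Fi24 := fun u hu => FiTwentyFour.even h.ha hu
  have cm : ∀ u v : Fi24, u * a = a * u → v * a = a * v → u * v = v * u → a * u * (a * v) = a * v * (a * u) := by
    intro u v hu hv huv
    rw [m2 u v hu, m2 v u hv, huv]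
  refine rank_of_three (x := (⟨a * b, ev b h.hb⟩ : Spor.Fi24')) (y := ⟨a * c, ev c h.hc⟩) (z := ⟨a * d, ev d h.hd⟩)
    (Subtype.ext (sq2 b h.hb ba)) (Subtype.ext (sq2 c h.hc ca)) (Subtype.ext (sq2 d h.hd da))
    (Subtype.ext (cm b c ba ca h.bc.eq)) (Subtype.ext (cm b d ba da h.bd.eq)) (Subtype.ext (cm c d ca da h.cd.eq))
    ?_ ?_ ?_ ?_ ?_ ?_ ?_
  · exact fun h1 => OddHalf.D4.Spor.FiTF.pair_ne h.hb h.nab (congrArg Subtype.val h1)
  · exact fun h1 => OddHalf.D4.Spor.FiTF.pair_ne h.hc h.nac (congrArg Subtype.val h1)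
  · exact fun h1 => OddHalf.D4.Spor.FiTF.pair_ne h.hd h.nad (congrArg Subtype.val h1)
  · intro h1
    have h2 : a * b * (a * c) = 1 := congrArg Subtype.val h1
    rw [m2 b c ba] at h2
    exact OddHalf.D4.Spor.FiTF.pair_ne h.hc h.nbc h2
  · intro h1
    have h2 : a * b * (a * d) = 1 := congrArg Subtype.val h1
    rw [m2 b d ba] at h2
    exact OddHalf.D4.Spor.FiTF.pair_ne h.hd h.nbd h2
  · intro h1
    have h2 : a * c * (a * d) = 1 := congrArg Subtype.val h1
    rw [m2 c d ca] at h2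
    exact OddHalf.D4.Spor.FiTF.pair_ne h.hd h.ncd h2
  · intro h1
    have h2 : a * b * (a * c) * (a * d) = 1 := congrArg Subtype.val h1
    rw [m2 b c ba] at h2
    apply hz
    rw [← h.prod, ← h2]
    calc a * b * c * d = a * (b * c) * d := by group
      _ = b * c * (a * d) := by
        have : a * (b * c) = b * c * a := by
          calc a * (b * c) = (a * b) * c := by group
            _ = b * a * c := by rw [ba]
            _ = b * (a * c) := by group
            _ = b * (c * a) := by rw [ca]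
            _ = b * c * a := by group
        rw [this]; group

/-- **`Fi24'` is of restricted even type.** -/
theorem restricted_fi24 {G : Type*} [Group G] [Finite G] (h : Spor.IsoFi24' G) : IsOfRestrictedEvenType G := by
  obtain ⟨e⟩ := h
  refine restricted (compC2.of_equiv e.symm) (RankThreeTwo.Base.congr e rank) (compCard.of_equiv e.symm) ?_
  rintro n m ⟨rfl, rfl⟩
  exact ⟨ne_of_between 63681 (by norm_num) (by norm_num) (by norm_num), by norm_num⟩

end Cfsg.Agent.CTwoTab.FiTF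
end

-- part: H237/EvenFi
section
set_option linter.all false
open scoped Cfsg.Agent.FastGrp

/-!
# `Fi24'` is of even characteristic (helper237)

An involution of `Fi24'` is a product of two commuting transpositions (then `|C(t)|_2 ≤ 2^19`, so that it is not 2-central)
or conjugate to `z0`, with `O_2(C(z0)) = 2^{1+12}` containing its centralizer.
-/

set_option autoImplicit false

namespace Cfsg.Agent.H237.EvenFi

open Cfsg Cfsg.Spor Cfsg.Agent.R01 Cfsg.Agent.R08 Cfsg.Agent.R08.FiTwentyFour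
open Cfsg.Agent.CTwoTab.FiTF
open Subgroup

local notation "Pr" => Cfsg.Agent.R08.TetFi24A.At

/-- `N(a, b)` has index at most two in `C(ab)` -/
theorem relIndex_dvd {a b : Fi24} (P : Pr a b) {t : Spor.Fi24'} (ht : (t : Fi24) = a * b) :
    (N a b).relIndex (centralizer ({t} : Set Spor.Fi24')) ∣ 2 := by
  by_cases hle : centralizer ({t} : Set Spor.Fi24') ≤ N a b
  · rw [relIndex_eq_one.2 hle]
    exact one_dvd 2
  · obtain ⟨x, hx, hxN⟩ := Set.not_subset.1 hle
    have hsw : ∀ y : Spor.Fi24', y ∈ centralizer ({t} : Set Spor.Fi24') → y ∉ N a b →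
        ((y : Fi24) * a * (y : Fi24)⁻¹ = b ∧ (y : Fi24) * b * (y : Fi24)⁻¹ = a) := by
      intro y hy hyN
      rcases fix_or_swap P ht hy with h | h
      · exfalso
        apply hyN
        rw [mem_N, mem_Cab]
        exact ⟨mem_commutator_iff.1 y.2, mul_inv_eq_iff_eq_mul.1 h.1, mul_inv_eq_iff_eq_mul.1 h.2⟩
      · exact h
    have hfix : ∀ y : Spor.Fi24', y ∈ N a b →
        ((y : Fi24) * a * (y : Fi24)⁻¹ = a ∧ (y : Fi24) * b * (y : Fi24)⁻¹ = b) := by
      intro y hy
      obtain ⟨-, h1, h2⟩ := mem_Cab.1 (mem_N.1 hy)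
      exact ⟨mul_inv_eq_iff_eq_mul.2 h1, mul_inv_eq_iff_eq_mul.2 h2⟩
    have hne : a ≠ b := P.ne
    have h2 : ((N a b).subgroupOf (centralizer ({t} : Set Spor.Fi24'))).index = 2 := by
      rw [Subgroup.index_eq_two_iff]
      refine ⟨⟨x, hx⟩, fun c => ?_⟩
      rw [Subgroup.mem_subgroupOf, Subgroup.mem_subgroupOf]
      show Xor ((c : Spor.Fi24') * x ∈ N a b) ((c : Spor.Fi24') ∈ N a b)
      have hxs := hsw x hx hxN
      by_cases hc : (c : Spor.Fi24') ∈ N a b
      · right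
        exact ⟨hc, fun h => hxN ((mul_mem_cancel_left hc).1 h)⟩
      · left
        refine ⟨?_, hc⟩
        have hcs := hsw c c.2 hc
        rw [mem_N, mem_Cab]
        refine ⟨mem_commutator_iff.1 (((c : Spor.Fi24') * x : Spor.Fi24')).2, ?_, ?_⟩
        · rw [← mul_inv_eq_iff_eq_mul]
          show ((c : Spor.Fi24') : Fi24) * (x : Fi24) * a * (((c : Spor.Fi24') : Fi24) * (x : Fi24))⁻¹ = a
          calc ((c : Spor.Fi24') : Fi24) * (x : Fi24) * a * (((c : Spor.Fi24') : Fi24) * (x : Fi24))⁻¹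
              = ((c : Spor.Fi24') : Fi24) * ((x : Fi24) * a * (x : Fi24)⁻¹) * ((c : Spor.Fi24') : Fi24)⁻¹ := by group
            _ = a := by rw [hxs.1, hcs.2]
        · rw [← mul_inv_eq_iff_eq_mul]
          show ((c : Spor.Fi24') : Fi24) * (x : Fi24) * b * (((c : Spor.Fi24') : Fi24) * (x : Fi24))⁻¹ = b
          calc ((c : Spor.Fi24') : Fi24) * (x : Fi24) * b * (((c : Spor.Fi24') : Fi24) * (x : Fi24))⁻¹
              = ((c : Spor.Fi24') : Fi24) * ((x : Fi24) * b * (x : Fi24)⁻¹) * ((c : Spor.Fi24') : Fi24)⁻¹ := by group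
            _ = b := by rw [hxs.2, hcs.1]
    exact h2.dvd

/-- a product of two commuting transpositions is not 2-central in `Fi24'` -/
theorem not_central {a b : Fi24} (P : Pr a b) {t : Spor.Fi24'} (ht : (t : Fi24) = a * b)
    (S : Sylow 2 Spor.Fi24') (hS : ∀ x ∈ S, x * t = t * x) : False := by
  have := finite_Fi24
  have hfin : Finite Spor.Fi24' := inferInstance
  have hfact : Fact (Nat.Prime 2) := ⟨Nat.prime_two⟩
  have h0 : Nat.card Spor.Fi24' = 1255205709190661721292800 := Cfsg.Agent.S1698.result.2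
  have h1 : 2 ^ 21 ∣ Nat.card (S : Subgroup Spor.Fi24') := by
    apply S.pow_dvd_card_of_pow_dvd_card
    rw [h0]; norm_num
  have hle : (S : Subgroup Spor.Fi24') ≤ centralizer ({t} : Set Spor.Fi24') := fun x hx =>
    mem_centralizer_singleton_iff.2 (hS x hx)
  have h2 : Nat.card (S : Subgroup Spor.Fi24') ∣ Nat.card (centralizer ({t} : Set Spor.Fi24')) :=
    card_dvd_of_le hle
  have h3 : Nat.card ↥(N a b) = 2 * 64561751654400 :=
    (Nat.card_congr (eN a b).toEquiv).trans (OddHalf.D4.Spor.FiTF.card_Cab P)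
  have h4 : Nat.card ↥(N a b) * (N a b).relIndex (centralizer ({t} : Set Spor.Fi24'))
      = Nat.card (centralizer ({t} : Set Spor.Fi24')) := by
    rw [← relIndex_bot_left, ← relIndex_bot_left]
    exact relIndex_mul_relIndex _ _ _ bot_le (N_le ht)
  have h5 : 2 ^ 21 ∣ 2 * 64561751654400 * 2 := by
    refine (h1.trans h2).trans ?_
    rw [← h4, h3]
    exact Nat.mul_dvd_mul_left _ (relIndex_dvd P ht)
  revert h5
  norm_num

/-- **`Fi24'` is of even characteristic.** -/
theorem even_model : IsOfEvenCharacteristic Spor.Fi24' := by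
  have := finite_Fi24
  have hfin : Finite Spor.Fi24' := inferInstance
  refine Omega.Quasithin.EvenOf.even_of ?_
  rintro y hyy hy1 ⟨S, hS⟩
  have hy2 : orderOf y = 2 := orderOf_eq_prime (by rw [pow_two]; exact hyy) hy1
  rcases classes y hy2 with ⟨a, b, P, h⟩ | ⟨k, hk⟩
  · exact (not_central P h S hS).elim
  · refine Omega.Quasithin.EvenOf.conj_data (z := z0) (k := k) hk.symm (Q := R0) R0_p ?_ ?_
    · intro g hg x hx
      exact R0_norm g (mem_centralizer_singleton_iff.2 hg) x hx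
    · intro g _ hx
      rcases R0_cent g hx with rfl | rfl
      · exact R0.one_mem
      · exact z0_mem

/-- **a group isomorphic to `Fi24'` is of even characteristic.** -/
theorem even_of_iso {G : Type*} [Group G] [Finite G] (h : Spor.IsoFi24' G) : IsOfEvenCharacteristic G := by
  obtain ⟨e⟩ := h
  exact Omega.Quasithin.EvenOf.even_of_equiv e even_model

end Cfsg.Agent.H237.EvenFi
end
end
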